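import Groth.Agent.Lib.SmallLift.Tower
import Groth.Agent.Lib.Henselian.Sections

/-!
# Flat deformations of smooth schemes over Artinian rings are smooth
-/

noncomputable section
set_option autoImplicit false
universe u

open CategoryTheory CategoryTheory.Limits AlgebraicGeometry
open Groth.Agent.Lib.SmallLift

namespace Groth.Agent.Lib.PtDefo16

/-- A flat lift of a smooth scheme along a surjection with nilpotent kernel is smooth. -/
theorem smooth_of_pow_eq_bot {k : Type u} [CommRing k] {X : Scheme.{u}} {x : X ⟶ Spec (CommRingCat.of k)} [Smooth x] :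
    ∀ (n : ℕ) {B : Type u} [CommRing B] [IsNoetherianRing B] (ρ : B →+* k), Function.Surjective ρ →
      RingHom.ker ρ ^ (2 ^ n) = ⊥ → ∀ {Z : Scheme.{u}} {f : Z ⟶ Spec (CommRingCat.of B)} {i : X ⟶ Z},
      Flat f → IsPullback i x f (spec ρ) → Smooth f := by
  intro n
  induction n with
  | zero =>
    intro B _ _ ρ hρ hker Z f i _ hc
    have hb : Function.Bijective ρ := ⟨(RingHom.injective_iff_ker_eq_bot ρ).2 (by rwa [pow_zero, pow_one] at hker), hρ⟩
    haveI : IsIso (CommRingCat.ofHom ρ) := (ConcreteCategory.isIso_iff_bijective _).2 hb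
    haveI : IsIso i :=
      (MorphismProperty.isomorphisms.iff i).1 (MorphismProperty.of_isPullback (P := MorphismProperty.isomorphisms _)
        hc.flip (MorphismProperty.isomorphisms.infer_property (spec ρ)))
    rw [show f = inv i ≫ x ≫ spec ρ by rw [← hc.w, IsIso.inv_hom_id_assoc]]
    infer_instance
  | succ n ih =>
    intro B _ _ ρ hρ hker Z f i _ hc
    let I : Ideal B := RingHom.ker ρ ^ (2 ^ n)
    have hIρ : I ≤ RingHom.ker ρ := Ideal.pow_le_self (by positivity)
    let π : B →+* B ⧸ I := Ideal.Quotient.mk I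
    let ρ' : B ⧸ I →+* k := Ideal.Quotient.lift I ρ fun a ha => hIρ ha
    have hρ' : ρ'.comp π = ρ := Ideal.Quotient.lift_comp_mk I ρ _
    have hs : spec ρ' ≫ spec π = spec ρ := by
      rw [← Spec.map_comp, ← CommRingCat.ofHom_comp, hρ']
    have hY : IsPullback (pullback.lift i (x ≫ spec ρ') (by rw [Category.assoc, hs]; exact hc.w)) x
        (pullback.snd f (spec π)) (spec ρ') := by
      refine IsPullback.of_right ?_ (pullback.lift_snd _ _ _) (IsPullback.of_hasPullback f (spec π))
      rw [pullback.lift_fst, hs]; exact hc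
    have hker' : RingHom.ker ρ' ^ (2 ^ n) = ⊥ := by
      rw [show RingHom.ker ρ' = (RingHom.ker ρ).map π from Ideal.ker_quotient_lift _ _, ← Ideal.map_pow]
      exact Ideal.map_quotient_self I
    haveI : Smooth (pullback.snd f (spec π)) :=
      ih ρ' (fun c => (hρ c).imp' π fun b hb => by rw [← hb, ← hρ']; rfl) hker'
        (MorphismProperty.pullback_snd _ _ inferInstance) hY
    refine smooth_of_sqZero (π := π) Ideal.Quotient.mk_surjective ?_ (IsPullback.of_hasPullback f (spec π))
    rw [Ideal.mk_ker]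
    show RingHom.ker ρ ^ (2 ^ n) * RingHom.ker ρ ^ (2 ^ n) = ⊥
    rw [← pow_add, ← two_mul, ← pow_succ', hker]


open Groth.Agent.Lib.Henselian.Sections in
/-- A point of the closed fibre of a smooth scheme over a nilpotent thickening lifts to a section. -/
theorem exists_section {k B : Type u} [Field k] [CommRing B] (ρ : B →+* k) (hρ : Function.Surjective ρ)
    (hnil : IsNilpotent (RingHom.ker ρ)) {Z : Scheme.{u}} (f : Z ⟶ Spec (CommRingCat.of B)) [Smooth f]
    (u₀ : Spec (CommRingCat.of k) ⟶ Z) (h₀ : u₀ ≫ f = spec ρ) :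
    ∃ s : Spec (CommRingCat.of B) ⟶ Z, s ≫ f = 𝟙 _ ∧ spec ρ ≫ s = u₀ := by
  obtain ⟨S, φ, j, hj, hx, hjf⟩ := exists_chart f (u₀.base (IsLocalRing.closedPoint k))
  let : Algebra B S := φ.hom.toAlgebra
  have hS : Algebra.Smooth B S := by
    have h : Smooth (j ≫ f) := inferInstance
    rw [hjf, HasRingHomProperty.Spec_iff (P := @Smooth)] at h
    exact h
  have hrange : Set.range u₀.base ⊆ Set.range j.base := by
    rintro _ ⟨z, rfl⟩
    rwa [Subsingleton.elim z (IsLocalRing.closedPoint k)]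
  obtain ⟨ψ, hψ⟩ : ∃ ψ : S ⟶ CommRingCat.of k, Spec.map ψ ≫ j = u₀ :=
    ⟨Spec.preimage (IsOpenImmersion.lift j u₀ hrange), by simp⟩
  have hψφ : φ ≫ ψ = CommRingCat.ofHom ρ := Spec.map_injective (by
    rw [Spec.map_comp, ← hjf, ← Category.assoc, hψ, h₀])
  letI : Algebra B k := ρ.toAlgebra
  let σ : S →ₐ[B] k :=
    { ψ.hom with commutes' := fun a => congrArg (fun g : CommRingCat.of B ⟶ _ => g.hom a) hψφ }
  let q : B →ₐ[B] k := Algebra.ofId B k
  have hq : IsNilpotent (RingHom.ker (q : B →+* k)) := hnil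
  let τ : S →ₐ[B] B := Algebra.FormallySmooth.liftOfSurjective σ q hρ hq
  have hτ : q.comp τ = σ := Algebra.FormallySmooth.comp_liftOfSurjective σ q hρ hq
  have hτ' : CommRingCat.ofHom τ.toRingHom ≫ CommRingCat.ofHom ρ = ψ :=
    CommRingCat.hom_ext (RingHom.ext fun z => AlgHom.congr_fun hτ z)
  refine ⟨Spec.map (CommRingCat.ofHom τ.toRingHom) ≫ j, ?_, ?_⟩
  · rw [Category.assoc, hjf, ← Spec.map_comp]
    rw [show φ ≫ CommRingCat.ofHom τ.toRingHom = 𝟙 _ from
      CommRingCat.hom_ext (RingHom.ext fun a => τ.commutes a), Spec.map_id]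
  · rw [← Category.assoc, ← Spec.map_comp, hτ', hψ]

end Groth.Agent.Lib.PtDefo16
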